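import Cfsg.Agent.H287.F4.Cls
import Cfsg.Agent.H287.F4.DSeven
import Cfsg.Agent.H903.QF.SevenC
import Cfsg.Agent.H461.QF.Seven
import Cfsg.Agent.H374.QF.Desc
import Cfsg.Agent.H258.QF.OddSeven
import Cfsg.Agent.H590.F4.CEleven

/-!
# `²E₆(2)`: the classification of the elements (S2491, row F4, box C)

* `e7` : E7 (helpers 903, 461, 374, 150);
* `classification` : from K1 and K2 only.
-/

set_option autoImplicit false
set_option linter.unusedSectionVars false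

namespace Cfsg.Agent.H287.F4.Final

open Subgroup
open Cfsg.Agent.H231.QF (cs X V Lv P j1 j2 j3 j4 In Out CR Sm RE th)

universe u

/-- the group -/
local notation "YY" => Cfsg.Agent.H231.QF.KK

variable {F : Type u} [Field F] [Fintype F] (hF : Fintype.card F = 4) {φ : F →+* F} (hφ : ∀ t, φ t = t ^ 2)

include hF hφ

/-- an element of order seven of `P₂` and its fixed points -/
theorem t1 : ∃ d0 : YY F, d0 ∈ P φ j2 ∧ orderOf d0 = 7 ∧ ∀ z ∈ V φ j2, d0 * z = z * d0 →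
    z ∈ X φ ![1, 3, 4, 2] ⊔ X φ ![2, 3, 4, 2] := by
  obtain ⟨d0, h1, h2⟩ := DSeven.exists_d0 hF hφ
  obtain ⟨h3, h4⟩ := Cfsg.Agent.H903.QF.SevenC.T1_of hF (φ := φ) (Cfsg.Agent.H374.QF.Desc.V2_le φ)
    (fun K' _ _ ι z hz => Cfsg.Agent.H374.QF.Desc.descent hF hφ ι hz) (d0 := d0) h2
  exact ⟨d0, h1, h3, h4⟩

/-- **E7** -/
theorem e7 : Cls.E7 φ := fun _ _ hg hz hz1 _ hgz h7 =>
  Cfsg.Agent.H461.QF.Seven.e7_of hF hφ (t1 hF hφ) hg hz hz1 hgz h7

/-- **The classification.** -/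
theorem classification (hre : ∀ t : YY F, RE t ↔ t ≠ 1 ∧ ∃ x : YY F, x * t * x⁻¹ ∈ X φ th)
    (hcen : ∀ {t : YY F}, t ∈ X φ th → t ≠ 1 → centralizer ({t} : Set (YY F)) = P φ j1) (g : YY F) :
    In φ j1 g ∨ Cfsg.Agent.H231.QF.Out φ j4 g ∨ Sm g ∨ ∃ k : ℕ, g ^ 3 ^ k = 1 :=
  Cls.classification_main hF hφ hre hcen (e7 hF hφ) (fun g h ho => Cfsg.Agent.H258.QF.sm_of_odd_seven hF g h ho)
    (fun g _ hp h _ => Cfsg.Agent.H590.F4.CEleven.c_big hF g hp h) g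

end Cfsg.Agent.H287.F4.Final
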